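import Mathlib
import Cfsg.Prelude.Def_HallClasses
import Cfsg.Agent.H164.HallGen
import Cfsg.Agent.SignalizersComponents.CoprimeBasic

/-!
# The Baer–Suzuki theorem for `D_π`-groups: interface (helper518, S3876)

`S` simple, `A` a group of automorphisms of `S` containing the inner ones.

* `DA π A` : every `π`-subgroup of `A` normalises a Hall `π`-subgroup of `S`; the Hall `π`-subgroups of `S` are
  conjugate under `A`;
* `BS π x` : `x` and its conjugates under inner automorphisms generate `π`-subgroups;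
* `Row π S` : an automorphism `x ∈ A` of prime order with `DA π A` and `BS π x` exists only if `S` is a `π`-group.
-/

set_option autoImplicit false

namespace Cfsg.Agent.H518.DPi

open Cfsg Subgroup

/-- every prime divisor of the order of `g` lies in `π` -/
def PiEl (π : Set ℕ) {G : Type*} [Group G] (g : G) : Prop := ∀ r : ℕ, r.Prime → r ∣ orderOf g → r ∈ π

/-- every `π`-subgroup of `A` normalises a Hall `π`-subgroup of `S`; the Hall `π`-subgroups are conjugate under `A` -/
structure DA (π : Set ℕ) {S : Type*} [Group S] (A : Subgroup (MulAut S)) : Prop where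
  inn : ∀ s : S, MulAut.conj s ∈ A
  dom : ∀ K : Subgroup (MulAut S), K ≤ A → IsPiSubgroup π K →
    ∃ H : Subgroup S, IsPiHall π H ∧ ∀ k ∈ K, H.map (k : S ≃* S).toMonoidHom = H
  tr : ∀ H H' : Subgroup S, IsPiHall π H → IsPiHall π H' → ∃ a ∈ A, H' = H.map (a : S ≃* S).toMonoidHom

/-- `x` and any of its conjugates under inner automorphisms generate a `π`-subgroup -/
def BS (π : Set ℕ) {S : Type*} [Group S] (x : MulAut S) : Prop :=
  ∀ s : S, IsPiSubgroup π (closure ({x, MulAut.conj s * x * (MulAut.conj s)⁻¹} : Set (MulAut S)))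

/-- the statement to be proved for every non-abelian simple group `S` and every `π ∋ 2` -/
def Row (π : Set ℕ) (S : Type*) [Group S] : Prop :=
  ∀ (A : Subgroup (MulAut S)) (x : MulAut S), DA π A → x ∈ A → (orderOf x).Prime → BS π x →
    ∀ r : ℕ, r.Prime → r ∣ Nat.card S → r ∈ π

section Elt

variable {π : Set ℕ} {G : Type*} [Group G]

theorem PiEl.of_mem [Finite G] {H : Subgroup G} (hH : IsPiSubgroup π H) {g : G} (hg : g ∈ H) : PiEl π g := by
  intro r hr hd
  refine hH r hr (hd.trans ?_)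
  rw [← Subgroup.orderOf_mk g hg]
  exact orderOf_dvd_natCard _

theorem PiEl.map {H : Type*} [Group H] {g : G} (hg : PiEl π g) (f : G →* H) : PiEl π (f g) :=
  fun r hr hd => hg r hr (hd.trans (orderOf_map_dvd f g))

theorem PiEl.eq_one_of_pow {g : G} (hg : PiEl π g) {t n : ℕ} (ht : t.Prime) (htπ : t ∉ π) (h : g ^ t ^ n = 1) :
    g = 1 := by
  by_contra hne
  have h1 : orderOf g ≠ 1 := fun h0 => hne (orderOf_eq_one_iff.1 h0)
  obtain ⟨r, hr, hd⟩ := Nat.exists_prime_and_dvd h1
  have h2 : r ∣ t ^ n := hd.trans (orderOf_dvd_of_pow_eq_one h)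
  have h3 : r = t := (Nat.prime_dvd_prime_iff_eq hr ht).1 (hr.dvd_of_dvd_pow h2)
  exact htπ (h3 ▸ hg r hr hd)

/-- an element of order prime to all primes of `π` is trivial if it is a `π`-element -/
theorem PiEl.eq_one_of_card [Finite G] {g : G} (hg : PiEl π g) {K : Subgroup G}
    (hK : ∀ r : ℕ, r.Prime → r ∣ Nat.card K → r ∉ π) (h : g ∈ K) : g = 1 := by
  by_contra hne
  have h1 : orderOf g ≠ 1 := fun h0 => hne (orderOf_eq_one_iff.1 h0)
  obtain ⟨r, hr, hd⟩ := Nat.exists_prime_and_dvd h1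
  refine hK r hr (hd.trans ?_) (hg r hr hd)
  rw [← Subgroup.orderOf_mk g h]
  exact orderOf_dvd_natCard _

end Elt

section Basic

variable {π : Set ℕ} {S : Type*} [Group S] [Finite S] {x : MulAut S}

/-- the commutator of `x` with an element of `S` -/
theorem conj_mul_inv (x : MulAut S) (s : S) :
    MulAut.conj s * x * (MulAut.conj s)⁻¹ * x⁻¹ = MulAut.conj (s * (x s)⁻¹) := by
  ext y
  simp [MulAut.conj_apply, mul_assoc]

theorem orderOf_conj (hZ : ∀ g : S, MulAut.conj g = 1 → g = 1) (g : S) :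
    orderOf (MulAut.conj g) = orderOf g :=
  orderOf_injective MulAut.conj ((injective_iff_map_eq_one _).2 hZ) g

/-- `s * (x s)⁻¹` is a `π`-element -/
theorem BS.piEl (hZ : ∀ g : S, MulAut.conj g = 1 → g = 1) (h : BS π x) (s : S) : PiEl π (s * (x s)⁻¹) := by
  have hfin : Finite (MulAut S) := DFunLike.finite _
  have h1 : MulAut.conj s * x * (MulAut.conj s)⁻¹ * x⁻¹ ∈
      closure ({x, MulAut.conj s * x * (MulAut.conj s)⁻¹} : Set (MulAut S)) :=
    mul_mem (subset_closure (by simp)) (inv_mem (subset_closure (by simp)))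
  rw [conj_mul_inv] at h1
  have h2 := PiEl.of_mem (h s) h1
  intro r hr hd
  exact h2 r hr (by rwa [orderOf_conj hZ])

/-- **`x` centralises every `x`-invariant subgroup of order prime to `π`** -/
theorem BS.centralizes (hZ : ∀ g : S, MulAut.conj g = 1 → g = 1) (h : BS π x) {K : Subgroup S}
    (hK : ∀ r : ℕ, r.Prime → r ∣ Nat.card K → r ∉ π) (hx : ∀ k ∈ K, x k ∈ K) : ∀ k ∈ K, x k = k := by
  intro k hk
  have h1 := (h.piEl hZ k).eq_one_of_card hK (mul_mem hk (inv_mem (hx k hk)))
  exact (mul_inv_eq_one.1 h1).symm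

/-- if `k` and `x k` generate (or just lie in) a subgroup of order prime to `π` then `x k = k` -/
theorem BS.eq_of_mem (hZ : ∀ g : S, MulAut.conj g = 1 → g = 1) (h : BS π x) {K : Subgroup S}
    (hK : ∀ r : ℕ, r.Prime → r ∣ Nat.card K → r ∉ π) {k : S} (hk : k ∈ K) (hx : x k ∈ K) : x k = k := by
  have h1 := (h.piEl hZ k).eq_one_of_card hK (mul_mem hk (inv_mem hx))
  exact (mul_inv_eq_one.1 h1).symm

/-- the order of `x` is in `π` -/
theorem BS.orderOf_mem (h : BS π x) (hx : (orderOf x).Prime) : orderOf x ∈ π := by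
  have hfin : Finite (MulAut S) := DFunLike.finite _
  exact PiEl.of_mem (h 1) (subset_closure (Set.mem_insert _ _)) _ hx dvd_rfl

/-- `π`-subgroups of `S` lie in Hall `π`-subgroups -/
theorem DA.le_hall {A : Subgroup (MulAut S)} (h : DA π A) {K : Subgroup S} (hK : IsPiSubgroup π K) :
    ∃ H : Subgroup S, IsPiHall π H ∧ K ≤ H := by
  have hpi : IsPiSubgroup π (K.map MulAut.conj) := by
    intro p hp hd
    exact hK p hp (hd.trans (Subgroup.card_map_dvd _ _))
  obtain ⟨H, hH, hn⟩ := h.dom (K.map MulAut.conj) (by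
    rintro _ ⟨k, -, rfl⟩
    exact h.inn k) hpi
  refine ⟨H, hH, ?_⟩
  -- `K` normalises `H`, so `K H` is a `π`-group
  have hKn : K ≤ normalizer (H : Set S) := by
    intro k hk
    rw [Subgroup.mem_normalizer_iff_map_conj_eq]
    exact hn _ ⟨k, hk, rfl⟩
  have h1 : IsPiSubgroup π (K ⊔ H) := by
    intro p hp hd
    have h2 : Nat.card ↥(K ⊔ H) ∣ Nat.card K * Nat.card H := by
      rw [sup_comm, mul_comm]
      exact SignalizersComponents.CoprimeBasic.card_sup_dvd hKn
    rcases (hp.dvd_mul).1 (hd.trans h2) with h3 | h3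
    · exact hK p hp h3
    · exact hH.1 p hp h3
  have h5 := H164.hall_eq_of_le hH h1 le_sup_right
  rw [h5]
  exact le_sup_left

theorem DA.exists_hall {A : Subgroup (MulAut S)} (h : DA π A) : ∃ H : Subgroup S, IsPiHall π H := by
  obtain ⟨H, hH, -⟩ := h.le_hall (K := ⊥) H164.bot_pi
  exact ⟨H, hH⟩

end Basic

end Cfsg.Agent.H518.DPi
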